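import Mathlib
import Groth.Agent.H3.GenConnMain
import Groth.Agent.H84.GeomConn
import Groth.Agent.H12.Topo
import Groth.Agent.H20.GenFibreImage
import Groth.Agent.S0420

/-!
# Section components over a nonempty open of an irreducible base
-/

set_option autoImplicit false
set_option linter.style.haveILetI false
universe u
open CategoryTheory CategoryTheory.Limits AlgebraicGeometry TopologicalSpace

namespace Groth.Agent.H7.SecComp

open Groth.Agent.H3.GenConn Groth.Agent.H20.GenFibre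

/-- kernel of a morphism from a reduced scheme -/
theorem ker_eq_vanishingIdeal_of_isReduced {A B : Scheme.{u}} (q : A ⟶ B) [IsReduced A] :
    q.ker = Scheme.IdealSheafData.vanishingIdeal (Closeds.closure (Set.range q)) := by
  have h := Scheme.IdealSheafData.map_vanishingIdeal q ⊤
  rw [Scheme.IdealSheafData.vanishingIdeal_top, Scheme.nilradical_eq_bot,
    Scheme.IdealSheafData.map_bot] at h
  rw [h]
  congr 2
  simp

/-- identities of spectra of fields are geometrically connected -/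
theorem geometricallyConnected_id (S : Scheme.{u}) : GeometricallyConnected (𝟙 S) := by
  refine ⟨fun K _ y P fst snd hP => ?_⟩
  haveI : IsIso snd := hP.isIso_snd_of_isIso
  haveI : ConnectedSpace ↥(Spec (CommRingCat.of K)) := inferInstance
  exact (asIso snd).hom.homeomorph.symm.surjective.connectedSpace
    (asIso snd).hom.homeomorph.symm.continuous

variable {W Z : Scheme.{u}} (g : W ⟶ Z) (t : Z ⟶ W)

/-- the topological fibre of `closι ≫ g` over `z`, pushed to `W` -/
theorem image_preimage_comp {A : Scheme.{u}} (i : A ⟶ W) (z : Z) :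
    i '' ((i ≫ g) ⁻¹' {z}) = Set.range i ∩ g ⁻¹' {z} := by
  ext w
  constructor
  · rintro ⟨a, ha, rfl⟩
    exact ⟨⟨a, rfl⟩, ha⟩
  · rintro ⟨⟨a, rfl⟩, ha⟩
    exact ⟨a, ha, rfl⟩

/-- the fibres of `h ∣_ V` are connected subsets of the source of `h` -/
theorem isConnected_preimage_singleton_of_restrict {A : Scheme.{u}} (h : A ⟶ Z) (V : Z.Opens)
    [GeometricallyConnected (h ∣_ V)] (z : Z) (hz : z ∈ V) : _root_.IsConnected (h ⁻¹' {z}) := by
  have h1 := (h ∣_ V).isConnected_preimage_singleton ⟨z, hz⟩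
  have h2 : (h ⁻¹ᵁ V).ι '' ((h ∣_ V) ⁻¹' {⟨z, hz⟩}) = h ⁻¹' {z} := by
    ext a
    constructor
    · rintro ⟨b, hb, rfl⟩
      have : (h ∣_ V) b = ⟨z, hz⟩ := hb
      have h3 : V.ι ((h ∣_ V) b) = h ((h ⁻¹ᵁ V).ι b) := by
        rw [← Scheme.Hom.comp_apply, morphismRestrict_ι, Scheme.Hom.comp_apply]
      rw [this] at h3
      exact h3.symm
    · intro ha
      have ha' : a ∈ h ⁻¹ᵁ V := by
        show h a ∈ V
        rw [show h a = z from ha]; exact hz
      refine ⟨⟨a, ha'⟩, ?_, rfl⟩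
      have h3 : V.ι ((h ∣_ V) ⟨a, ha'⟩) = h ((h ⁻¹ᵁ V).ι ⟨a, ha'⟩) := by
        rw [← Scheme.Hom.comp_apply, morphismRestrict_ι, Scheme.Hom.comp_apply]
      apply Subtype.ext
      show V.ι ((h ∣_ V) ⟨a, ha'⟩) = z
      rw [h3]
      exact ha
  rw [← h2]
  exact h1.image _ (h ⁻¹ᵁ V).ι.continuous.continuousOn

/-- **Section components over a nonempty open of an irreducible base.** -/
theorem exists_open_cover_of_section [IrreducibleSpace ↥Z] [LocallyOfFiniteType g] [QuasiCompact g]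
    (ht : t ≫ g = 𝟙 Z) :
    ∃ (V : Z.Opens) (C₀ C₁ : Set W), (V : Set Z).Nonempty ∧ IsClosed C₀ ∧ IsClosed C₁ ∧
      (∀ w, g w ∈ V → w ∈ C₀ ∪ C₁) ∧ (∀ w ∈ C₀ ∩ C₁, g w ∉ V) ∧ (∀ z ∈ V, t z ∈ C₀) ∧
      (∀ z ∈ V, IsPreconnected (C₀ ∩ g ⁻¹' {z})) := by
  classical
  set ζ := genericPoint ↥Z with hζ
  have hgt : ∀ z, g (t z) = z := fun z => by
    rw [← Scheme.Hom.comp_apply, ht]; rfl
  -- the generic fibre is a noetherian space
  haveI : QuasiCompact (g.fiberToSpecResidueField ζ) :=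
    inferInstanceAs (QuasiCompact (pullback.snd g (Z.fromSpecResidueField ζ)))
  haveI : LocallyOfFiniteType (g.fiberToSpecResidueField ζ) :=
    inferInstanceAs (LocallyOfFiniteType (pullback.snd g (Z.fromSpecResidueField ζ)))
  haveI : IsLocallyNoetherian (g.fiber ζ) :=
    LocallyOfFiniteType.isLocallyNoetherian (g.fiberToSpecResidueField ζ)
  haveI : CompactSpace (g.fiber ζ) := by
    have := (quasiCompact_iff_compactSpace (f := g.fiberToSpecResidueField ζ)).mp inferInstance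
    exact this
  haveI : IsNoetherian (g.fiber ζ) := {}
  have hemb : Topology.IsEmbedding (g.fiberι ζ) := (g.fiberι ζ).isEmbedding
  -- the point of the generic fibre given by the section
  obtain ⟨w₀, hw₀⟩ : t ζ ∈ Set.range (g.fiberι ζ) := by
    rw [g.range_fiberι]; exact hgt ζ
  -- its connected component and the complement
  set T₀ : Set ↥(g.fiber ζ) := connectedComponent w₀ with hT₀
  have hT₀cl : IsClosed T₀ := isClosed_connectedComponent
  have hT₀op : IsOpen T₀ := Groth.Agent.H12.isOpen_connectedComponent_of_noetherian w₀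
  have hT₁cl : IsClosed T₀ᶜ := hT₀op.isClosed_compl
  set C₀ : Set W := closure (g.fiberι ζ '' T₀) with hC₀
  set C₁ : Set W := closure (g.fiberι ζ '' T₀ᶜ) with hC₁
  have hpre₀ : (g.fiberι ζ) ⁻¹' C₀ = T₀ := by
    rw [hC₀, ← hemb.closure_eq_preimage_closure_image, hT₀cl.closure_eq]
  have hpre₁ : (g.fiberι ζ) ⁻¹' C₁ = T₀ᶜ := by
    rw [hC₁, ← hemb.closure_eq_preimage_closure_image, hT₁cl.closure_eq]
  -- (b) the closures cover generically
  obtain ⟨V₁, hV₁ne, hV₁⟩ := exists_open_preimage_subset_closure_fiber g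
  have hcl : closure (g ⁻¹' {ζ}) ⊆ C₀ ∪ C₁ := by
    apply closure_minimal _ (isClosed_closure.union isClosed_closure)
    intro x hx
    rw [← g.range_fiberι ζ] at hx
    obtain ⟨w, rfl⟩ := hx
    by_cases hw : w ∈ T₀
    · exact Or.inl (subset_closure ⟨w, hw, rfl⟩)
    · exact Or.inr (subset_closure ⟨w, hw, rfl⟩)
  -- (c) the closures are disjoint generically
  obtain ⟨V₂, hV₂ne, hV₂⟩ := exists_open_preimage_disjoint g (C₀ ∩ C₁)
    (isClosed_closure.inter isClosed_closure) (by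
      rintro x ⟨hx0, hx1⟩ hgx
      have hx : x ∈ Set.range (g.fiberι ζ) := by rw [g.range_fiberι]; exact hgx
      obtain ⟨w, rfl⟩ := hx
      have h0 : w ∈ T₀ := by rw [← hpre₀]; exact hx0
      have h1 : w ∈ T₀ᶜ := by rw [← hpre₁]; exact hx1
      exact h1 h0)
  -- (d) the section lands in `C₀` generically
  have htζ : t ζ ∉ C₁ := by
    rw [← hw₀]
    intro h
    have : w₀ ∈ T₀ᶜ := by rw [← hpre₁]; exact h
    exact this mem_connectedComponent
  let V₃ : Z.Opens := ⟨t ⁻¹' C₁ᶜ, isClosed_closure.isOpen_compl.preimage t.continuous⟩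
  have hV₃ζ : ζ ∈ V₃ := htζ
  -- (e) connectedness of the fibres of the closure of `T₀`
  let i₀ := closι g ζ T₀
  have hri₀ : Set.range i₀ = C₀ := range_closι g ζ T₀
  have hfib : i₀ '' ((i₀ ≫ g) ⁻¹' {ζ}) = g.fiberι ζ '' T₀ := by
    rw [image_preimage_comp, hri₀]
    ext x
    constructor
    · rintro ⟨hx0, hgx⟩
      exact mem_image_of_mem_closure g ζ hT₀cl hx0 hgx
    · rintro ⟨w, hw, rfl⟩
      refine ⟨subset_closure ⟨w, hw, rfl⟩, ?_⟩
      have : g.fiberι ζ w ∈ Set.range (g.fiberι ζ) := ⟨w, rfl⟩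
      rw [g.range_fiberι] at this
      exact this
  -- the generic fibre of the closure is connected
  haveI hconn : ConnectedSpace ↥((i₀ ≫ g).fiber ζ) := by
    rw [connectedSpace_iff_univ]
    have he : Topology.IsEmbedding ((i₀ ≫ g).fiberι ζ ≫ i₀) := by
      rw [Scheme.Hom.comp_base, TopCat.coe_comp]
      exact i₀.isEmbedding.comp ((i₀ ≫ g).fiberι ζ).isEmbedding
    have hrange : ((i₀ ≫ g).fiberι ζ ≫ i₀) '' Set.univ = g.fiberι ζ '' T₀ := by
      rw [Set.image_univ, Scheme.Hom.comp_base, TopCat.coe_comp, Set.range_comp,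
        (i₀ ≫ g).range_fiberι, hfib]
    have hc : _root_.IsConnected (g.fiberι ζ '' T₀) :=
      isConnected_connectedComponent.image _ (g.fiberι ζ).continuous.continuousOn
    refine ⟨?_, ?_⟩
    · have hne : (((i₀ ≫ g).fiberι ζ ≫ i₀) '' Set.univ).Nonempty := by rw [hrange]; exact hc.nonempty
      exact hne.of_image
    · rw [← he.isInducing.isPreconnected_image, hrange]
      exact hc.isPreconnected
  -- the rational point
  have hker : i₀.ker ≤ (Z.fromSpecResidueField ζ ≫ t).ker := by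
    rw [Scheme.IdealSheafData.ker_subschemeι, ker_eq_vanishingIdeal_of_isReduced]
    apply Scheme.IdealSheafData.vanishingIdeal_antimono
    rw [Closeds.closure_le]
    rintro _ ⟨x, rfl⟩
    show (Z.fromSpecResidueField ζ ≫ t) x ∈ closure (g.fiberι ζ '' T₀)
    rw [Scheme.Hom.comp_apply, Scheme.fromSpecResidueField_apply, ← hw₀]
    exact subset_closure ⟨w₀, mem_connectedComponent, rfl⟩
  let τ := IsClosedImmersion.lift i₀ (Z.fromSpecResidueField ζ ≫ t) hker
  have hτ : τ ≫ i₀ = Z.fromSpecResidueField ζ ≫ t := IsClosedImmersion.lift_fac _ _ hker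
  let σ : Spec (Z.residueField ζ) ⟶ (i₀ ≫ g).fiber ζ :=
    pullback.lift τ (𝟙 _) (by
      rw [← Category.assoc, hτ, Category.assoc, ht, Category.comp_id, Category.id_comp])
  have hσ : σ ≫ (i₀ ≫ g).fiberToSpecResidueField ζ = 𝟙 _ := pullback.lift_snd _ _ _
  have hgc : GeometricallyConnected ((i₀ ≫ g).fiberToSpecResidueField ζ) := by
    haveI : GeometricallyConnected (σ ≫ (i₀ ≫ g).fiberToSpecResidueField ζ) := by
      rw [hσ]; exact geometricallyConnected_id _
    haveI : Nonempty ↥(Spec (Z.residueField ζ)) := inferInstance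
    exact Groth.Agent.H84.GeomConn.geometricallyConnected_of_hom
      (k := Z.residueField ζ) σ ((i₀ ≫ g).fiberToSpecResidueField ζ)
  obtain ⟨V₄, hV₄ne, hV₄⟩ := Groth.Agent.S0420.result (i₀ ≫ g) hgc
  -- assemble
  refine ⟨V₁ ⊓ V₂ ⊓ V₃ ⊓ V₄, C₀, C₁, ?_, isClosed_closure, isClosed_closure, ?_, ?_, ?_, ?_⟩
  · refine ⟨ζ, ⟨⟨⟨?_, ?_⟩, hV₃ζ⟩, ?_⟩⟩
    · exact genericPoint_mem_of_nonempty V₁.isOpen hV₁ne
    · exact genericPoint_mem_of_nonempty V₂.isOpen hV₂ne
    · exact genericPoint_mem_of_nonempty V₄.isOpen hV₄ne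
  · rintro w ⟨⟨⟨h1, -⟩, -⟩, -⟩
    exact hcl (hV₁ w h1)
  · rintro w hw ⟨⟨⟨-, h2⟩, -⟩, -⟩
    exact hV₂ w hw h2
  · rintro z ⟨⟨⟨h1, -⟩, h3⟩, -⟩
    have := hcl (hV₁ (t z) (by rw [hgt]; exact h1))
    exact this.resolve_right h3
  · rintro z ⟨-, h4⟩
    have := isConnected_preimage_singleton_of_restrict (i₀ ≫ g) V₄ z h4
    have h5 := this.image i₀ i₀.continuous.continuousOn
    rw [image_preimage_comp, hri₀] at h5
    exact h5.isPreconnected

end Groth.Agent.H7.SecComp
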