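import Mathlib

/-!
# Section components: a topological criterion

`sectionComponents f s` is the union over `y` of the connected component of `s y` in the fibre
`f ⁻¹' {y}`. If over `V` the total space is covered by two closed sets `C₀`, `C₁`, disjoint over `V`,
with `s` landing in `C₀` and `C₀` meeting the fibres over `V` in connected sets, then the section
components over `V` are the trace of `C₀`, hence clopen in `f ⁻¹' V`.
-/

set_option autoImplicit false

namespace Groth.Agent.H7.SecComp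

variable {X Y : Type*} [TopologicalSpace X] [TopologicalSpace Y]

omit [TopologicalSpace Y] in
theorem mem_connectedComponentIn_iff_of_cover (f : X → Y) (s : Y → X) (hs : ∀ y, f (s y) = y)
    (V : Set Y) (C₀ C₁ : Set X) (hC₀ : IsClosed C₀) (hC₁ : IsClosed C₁)
    (hb : ∀ x, f x ∈ V → x ∈ C₀ ∪ C₁) (hc : ∀ x ∈ C₀ ∩ C₁, f x ∉ V)
    (hd : ∀ y ∈ V, s y ∈ C₀) (he : ∀ y ∈ V, IsPreconnected (C₀ ∩ f ⁻¹' {y}))
    (x : X) (hx : f x ∈ V) :
    x ∈ connectedComponentIn (f ⁻¹' {f x}) (s (f x)) ↔ x ∈ C₀ := by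
  constructor
  · intro hcc
    by_contra hx0
    have hx1 : x ∈ C₁ := (hb x hx).resolve_left hx0
    have hpre : IsPreconnected (connectedComponentIn (f ⁻¹' {f x}) (s (f x))) :=
      isPreconnected_connectedComponentIn
    have hsub : connectedComponentIn (f ⁻¹' {f x}) (s (f x)) ⊆ f ⁻¹' {f x} :=
      connectedComponentIn_subset _ _
    have hsmem : s (f x) ∈ connectedComponentIn (f ⁻¹' {f x}) (s (f x)) :=
      mem_connectedComponentIn (hs (f x))
    obtain ⟨w, hw, hw0, hw1⟩ := isPreconnected_closed_iff.mp hpre C₀ C₁ hC₀ hC₁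
      (fun w hw => hb w (by rw [show f w = f x from hsub hw]; exact hx))
      ⟨s (f x), hsmem, hd _ hx⟩ ⟨x, hcc, hx1⟩
    exact hc w ⟨hw0, hw1⟩ (by rw [show f w = f x from hsub hw]; exact hx)
  · intro hx0
    exact (he _ hx).subset_connectedComponentIn ⟨hd _ hx, hs (f x)⟩ Set.inter_subset_right
      ⟨hx0, rfl⟩

omit [TopologicalSpace Y] in
theorem isClopen_of_cover (f : X → Y) (s : Y → X) (hs : ∀ y, f (s y) = y)
    (V : Set Y) (C₀ C₁ : Set X) (hC₀ : IsClosed C₀) (hC₁ : IsClosed C₁)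
    (hb : ∀ x, f x ∈ V → x ∈ C₀ ∪ C₁) (hc : ∀ x ∈ C₀ ∩ C₁, f x ∉ V)
    (hd : ∀ y ∈ V, s y ∈ C₀) (he : ∀ y ∈ V, IsPreconnected (C₀ ∩ f ⁻¹' {y})) :
    IsClopen (Subtype.val ⁻¹' {x : X | x ∈ connectedComponentIn (f ⁻¹' {f x}) (s (f x))} :
      Set ↑(f ⁻¹' V)) := by
  have h0 : (Subtype.val ⁻¹' {x : X | x ∈ connectedComponentIn (f ⁻¹' {f x}) (s (f x))} :
      Set ↑(f ⁻¹' V)) = Subtype.val ⁻¹' C₀ := by
    ext ⟨x, hx⟩
    exact mem_connectedComponentIn_iff_of_cover f s hs V C₀ C₁ hC₀ hC₁ hb hc hd he x hx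
  have h1 : (Subtype.val ⁻¹' C₀ : Set ↑(f ⁻¹' V))ᶜ = Subtype.val ⁻¹' C₁ := by
    ext ⟨x, hx⟩
    simp only [Set.mem_compl_iff, Set.mem_preimage]
    constructor
    · intro h
      exact (hb x hx).resolve_left h
    · intro h1 h0
      exact hc x ⟨h0, h1⟩ hx
  rw [h0]
  refine ⟨hC₀.preimage continuous_subtype_val, ?_⟩
  rw [← isClosed_compl_iff, h1]
  exact hC₁.preimage continuous_subtype_val

end Groth.Agent.H7.SecComp
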