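import Mathlib
import Groth.Agent.S1325
import Groth.Agent.S1324
import Groth.Agent.H12.Constr

/-!
# Constructibility of section components, noetherian case
-/

set_option autoImplicit false
set_option linter.style.haveILetI false
universe u
open CategoryTheory CategoryTheory.Limits AlgebraicGeometry TopologicalSpace Topology

namespace Groth.Agent.H7.SecComp

variable {X Y : Scheme.{u}} (f : X ⟶ Y) (s : Y ⟶ X)

/-- **Noetherian case** (Stacks 055E, noetherian step). -/
theorem isConstructible_sectionComponents_of_noetherianSpace (hs : s ≫ f = 𝟙 Y)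
    [LocallyOfFiniteType f] [QuasiCompact f] [NoetherianSpace ↥X] :
    IsConstructible (MoreMor.sectionComponents f s) := by
  classical
  apply Groth.Agent.H12.isConstructible_of_forall_irreducible
  intro Z' hZ'cl hZ'irr
  set E := MoreMor.sectionComponents f s with hE
  set ξ := hZ'irr.genericPoint with hξdef
  have hξ : IsGenericPoint ξ Z' := hZ'irr.isGenericPoint_genericPoint hZ'cl
  have hξZ : ξ ∈ Z' := hξ.mem
  obtain ⟨V, hVsub, hyV, hVo, hclopen⟩ := Groth.Agent.S1325.result f s hs (f ξ)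
  obtain ⟨O, hO, hOV⟩ := isOpen_induced_iff.mp hVo
  -- `f` maps `Z'` into the closure of `f ξ`
  have hfZ : ∀ x ∈ Z', f x ∈ closure {f ξ} := by
    intro x hx
    have h1 : x ∈ closure {ξ} := by rw [hξ.def]; exact hx
    have h2 := image_closure_subset_closure_image f.continuous ⟨x, h1, rfl⟩
    rwa [Set.image_singleton] at h2
  have hOV' : ∀ x ∈ Z', (f x ∈ O ↔ f x ∈ V) := by
    intro x hx
    have : (⟨f x, hfZ x hx⟩ : ↑(closure ({f ξ} : Set ↑Y))) ∈ Subtype.val ⁻¹' O ↔
        (⟨f x, hfZ x hx⟩ : ↑(closure ({f ξ} : Set ↑Y))) ∈ Subtype.val ⁻¹' V := by rw [hOV]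
    exact this
  set U : Set ↥X := f ⁻¹' O with hU
  have hUo : IsOpen U := hO.preimage f.continuous
  have hξU : ξ ∈ U := (hOV' ξ hξZ).mpr hyV
  set A : Set ↥X := U ∩ Z' with hA
  have hAV : A ⊆ f ⁻¹' V := fun x hx => (hOV' x hx.2).mp hx.1
  have hApre : _root_.IsPreconnected A := by
    refine (isPreconnected_singleton (x := ξ)).subset_closure ?_ ?_
    · rintro _ rfl; exact ⟨hξU, hξZ⟩
    · intro x hx
      rw [hξ.def]; exact hx.2
  -- the trace of `A` in `f ⁻¹' V`
  set A' : Set ↑(f ⁻¹' V) := Subtype.val ⁻¹' A with hA'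
  have himg : Subtype.val '' A' = A := by
    rw [hA', Subtype.image_preimage_coe]
    exact Set.inter_eq_right.mpr hAV
  have hA'pre : _root_.IsPreconnected A' := by
    rw [← IsInducing.subtypeVal.isPreconnected_image, himg]
    exact hApre
  by_cases hne : (A ∩ E).Nonempty
  · right
    refine ⟨U, hUo, ⟨ξ, hξU, hξZ⟩, ?_⟩
    obtain ⟨a, haA, haE⟩ := hne
    have hsub := hA'pre.subset_isClopen hclopen ⟨⟨a, hAV haA⟩, haA, haE⟩
    intro x hx
    exact hsub (show (⟨x, hAV hx⟩ : ↑(f ⁻¹' V)) ∈ A' from hx)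
  · left
    haveI : IrreducibleSpace ↥Z' := Subtype.irreducibleSpace hZ'irr
    rcases Groth.Agent.H12.dense_or_isNowhereDense (Subtype.val ⁻¹' E : Set ↥Z') with hd | hn
    · exfalso
      have hUne : (Subtype.val ⁻¹' U : Set ↥Z').Nonempty := ⟨⟨ξ, hξZ⟩, hξU⟩
      obtain ⟨⟨x, hxZ⟩, hxU, hxE⟩ := hd.inter_open_nonempty _
        (hUo.preimage continuous_subtype_val) hUne
      exact hne ⟨x, ⟨hxU, hxZ⟩, hxE⟩
    · exact hn

end Groth.Agent.H7.SecComp
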