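import Mathlib
import Groth.Agent.H7.SecComp.Constr
import Groth.Agent.H29.ConsMorC

/-!
# Constructibility of section components, general case
-/

set_option autoImplicit false
set_option linter.style.haveILetI false
universe u
open CategoryTheory CategoryTheory.Limits AlgebraicGeometry TopologicalSpace Topology

namespace Groth.Agent.H7.SecComp

/-- affine base: noetherian approximation -/
theorem isConstructible_sectionComponents_of_spec (A : CommRingCat.{u}) {X : Scheme.{u}}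
    (f : X ⟶ Spec A) (s : Spec A ⟶ X) (hs : s ≫ f = 𝟙 _)
    [LocallyOfFinitePresentation f] [QuasiCompact f] [QuasiSeparated f] :
    IsConstructible (MoreMor.sectionComponents f s) := by
  haveI : LocallyOfFinitePresentation (s ≫ f) := by rw [hs]; infer_instance
  haveI : QuasiCompact (s ≫ f) := by rw [hs]; infer_instance
  haveI : QuasiSeparated (s ≫ f) := by rw [hs]; infer_instance
  obtain ⟨S₀, X₀, T₀, g₀, s₀, h, eX, eT, hN, sq1, sq2, p1, p2, p3, p4, p5, p6⟩ :=
    Groth.Agent.H29.ConsMorC.exists_noetherian_descent_pair A s f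
  -- the family over `T₀`
  let P₀ := pullback g₀ (s₀ ≫ g₀)
  let pr₁ : P₀ ⟶ X₀ := pullback.fst g₀ (s₀ ≫ g₀)
  let pr₂ : P₀ ⟶ T₀ := pullback.snd g₀ (s₀ ≫ g₀)
  let Γ : T₀ ⟶ P₀ := pullback.lift s₀ (𝟙 T₀) (by rw [Category.id_comp])
  have hΓ : Γ ≫ pr₂ = 𝟙 T₀ := pullback.lift_snd _ _ _
  -- noetherianity
  haveI : IsLocallyNoetherian T₀ := LocallyOfFiniteType.isLocallyNoetherian (s₀ ≫ g₀)
  haveI : CompactSpace ↥T₀ := QuasiCompact.compactSpace_of_compactSpace (s₀ ≫ g₀)
  haveI : IsNoetherian T₀ := {}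
  haveI : LocallyOfFinitePresentation pr₂ := MorphismProperty.pullback_snd _ _ p1
  haveI : QuasiCompact pr₂ := MorphismProperty.pullback_snd _ _ p2
  haveI : IsLocallyNoetherian P₀ := LocallyOfFiniteType.isLocallyNoetherian pr₂
  haveI : CompactSpace ↥P₀ := QuasiCompact.compactSpace_of_compactSpace pr₂
  haveI : IsNoetherian P₀ := {}
  have hE₀ := isConstructible_sectionComponents_of_noetherianSpace pr₂ Γ hΓ
  -- the comparison map
  have hh : eT ≫ s₀ ≫ g₀ = h := by
    rw [← Category.assoc, sq2.w, Category.assoc, sq1.w, ← Category.assoc, hs, Category.id_comp]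
  let φ : X ⟶ P₀ := pullback.lift eX (f ≫ eT) (by
    rw [Category.assoc, hh, sq1.w])
  have hφ1 : φ ≫ pr₁ = eX := pullback.lift_fst _ _ _
  have hφ2 : φ ≫ pr₂ = f ≫ eT := pullback.lift_snd _ _ _
  have hsq : IsPullback φ f pr₂ eT := by
    have hbig : IsPullback (φ ≫ pr₁) f g₀ (eT ≫ s₀ ≫ g₀) := by
      rw [hφ1, hh]; exact sq1
    exact IsPullback.of_right hbig hφ2 (IsPullback.of_hasPullback g₀ (s₀ ≫ g₀))
  have hsφ : s ≫ φ = eT ≫ Γ := by
    apply pullback.hom_ext
    · rw [Category.assoc, hφ1, Category.assoc]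
      show s ≫ eX = eT ≫ Γ ≫ pr₁
      rw [show Γ ≫ pr₁ = s₀ from pullback.lift_fst _ _ _]
      exact sq2.w.symm
    · rw [Category.assoc, hφ2, Category.assoc]
      show s ≫ f ≫ eT = eT ≫ Γ ≫ pr₂
      rw [hΓ, ← Category.assoc, hs, Category.id_comp, Category.comp_id]
  rw [Groth.Agent.S1324.result pr₂ Γ hΓ f φ eT hsq s hs hsφ]
  exact φ.isConstructible_preimage hE₀

/-- affine base -/
theorem isConstructible_sectionComponents_of_isAffine {X Y : Scheme.{u}} [IsAffine Y]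
    (f : X ⟶ Y) (s : Y ⟶ X) (hs : s ≫ f = 𝟙 _)
    [LocallyOfFinitePresentation f] [QuasiCompact f] [QuasiSeparated f] :
    IsConstructible (MoreMor.sectionComponents f s) := by
  have hs' : (Y.isoSpec.inv ≫ s) ≫ (f ≫ Y.isoSpec.hom) = 𝟙 _ := by
    rw [Category.assoc, ← Category.assoc s, hs, Category.id_comp, Iso.inv_hom_id]
  have h := isConstructible_sectionComponents_of_spec Γ(Y, ⊤) (f ≫ Y.isoSpec.hom)
    (Y.isoSpec.inv ≫ s) hs'
  have hsq : IsPullback (𝟙 X) (f ≫ Y.isoSpec.hom) f Y.isoSpec.inv :=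
    IsPullback.of_horiz_isIso ⟨by simp⟩
  rw [Groth.Agent.S1324.result f s hs (f ≫ Y.isoSpec.hom) (𝟙 X) Y.isoSpec.inv hsq
    (Y.isoSpec.inv ≫ s) hs' (by simp)] at h
  exact h

/-- **Stacks 055E**: the section components are locally constructible. -/
theorem isLocallyConstructible_sectionComponents {X Y : Scheme.{u}}
    (f : X ⟶ Y) (s : Y ⟶ X) (hs : s ≫ f = 𝟙 _)
    [LocallyOfFinitePresentation f] [QuasiCompact f] [QuasiSeparated f] :
    IsLocallyConstructible (MoreMor.sectionComponents f s) := by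
  refine IsLocallyConstructible.of_isOpenCover (U := fun V : Y.affineOpens => f ⁻¹ᵁ V.1) ?_ ?_
  · apply IsOpenCover.mk
    rw [eq_top_iff]
    intro x _
    obtain ⟨V, hV, hxV, -⟩ := exists_isAffineOpen_mem_and_subset (x := f x) (U := ⊤) trivial
    exact Opens.mem_iSup.mpr ⟨⟨V, hV⟩, hxV⟩
  · intro V
    haveI : IsAffine (V.1 : Scheme.{u}) := V.2
    have hsq : IsPullback (f ⁻¹ᵁ V.1).ι (f ∣_ V.1) f V.1.ι := (isPullback_morphismRestrict f V.1).flip
    let s' : (V.1 : Scheme.{u}) ⟶ (f ⁻¹ᵁ V.1 : Scheme.{u}) :=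
      hsq.lift (V.1.ι ≫ s) (𝟙 _) (by rw [Category.assoc, hs, Category.comp_id, Category.id_comp])
    have hs'1 : s' ≫ (f ⁻¹ᵁ V.1).ι = V.1.ι ≫ s := hsq.lift_fst _ _ _
    have hs'2 : s' ≫ (f ∣_ V.1) = 𝟙 _ := hsq.lift_snd _ _ _
    have h := isConstructible_sectionComponents_of_isAffine (f ∣_ V.1) s' hs'2
    rw [Groth.Agent.S1324.result f s hs (f ∣_ V.1) (f ⁻¹ᵁ V.1).ι V.1.ι hsq s' hs'2 hs'1] at h
    exact h.isLocallyConstructible

end Groth.Agent.H7.SecComp
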