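import Mathlib
import Groth.Agent.H29.ConsMorC
import Groth.Agent.S2075

/-!
# Noetherian approximation of a flat morphism of finite presentation with a section
-/

set_option autoImplicit false
set_option linter.style.haveILetI false
universe u
open CategoryTheory CategoryTheory.Limits AlgebraicGeometry TopologicalSpace Topology

namespace Groth.Agent.H7.SecComp

/-- descent of a flat finitely presented morphism with a section along a cofiltered limit -/
theorem exists_flat_descent_section {I : Type u} [SmallCategory I] [IsCofiltered I]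
    (D : I ⥤ Scheme.{u}) (c : Limits.Cone D) (hc : Limits.IsLimit c)
    [∀ (i j : I) (f : i ⟶ j), IsAffineHom (D.map f)] [∀ i, CompactSpace (D.obj i)]
    [∀ i, QuasiSeparatedSpace (D.obj i)] {X : Scheme.{u}} (f : X ⟶ c.pt) (s : c.pt ⟶ X)
    (hs : s ≫ f = 𝟙 _)
    [LocallyOfFinitePresentation f] [QuasiCompact f] [QuasiSeparated f] [Flat f] :
    ∃ (i : I) (Xi Ti : Scheme.{u}) (gi : Xi ⟶ D.obj i) (si : Ti ⟶ Xi) (eX : X ⟶ Xi)
      (eT : c.pt ⟶ Ti),
      IsPullback eX f gi (c.π.app i) ∧ IsPullback eT s si eX ∧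
      LocallyOfFinitePresentation gi ∧ QuasiCompact gi ∧ QuasiSeparated gi ∧ Flat gi ∧
      LocallyOfFinitePresentation (si ≫ gi) ∧ QuasiCompact (si ≫ gi) ∧
      QuasiSeparated (si ≫ gi) := by
  haveI : LocallyOfFinitePresentation (s ≫ f) := by rw [hs]; infer_instance
  haveI : QuasiCompact (s ≫ f) := by rw [hs]; infer_instance
  haveI : QuasiSeparated (s ≫ f) := by rw [hs]; infer_instance
  obtain ⟨j, Xj, Tj, gj, sj, eXj, eTj, hXj, hTj, p1, p2, p3, p4, p5, p6⟩ :=
    Groth.Agent.H29.ConsMorC.exists_descent_pair D c hc s f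
  haveI : CompactSpace ↥Xj := QuasiCompact.compactSpace_of_compactSpace gj
  haveI : QuasiSeparatedSpace ↥Xj := quasiSeparatedSpace_of_quasiSeparated gj
  have hY : IsPullback (c.π.app j) (𝟙 c.pt) (𝟙 (D.obj j)) (c.π.app j) := by
    haveI : IsIso (𝟙 c.pt) := IsIso.id _
    haveI : IsIso (𝟙 (D.obj j)) := IsIso.id _
    exact IsPullback.of_vert_isIso ⟨by simp⟩
  obtain ⟨i, φ, Xi, Yi, fi, gi, pY, pX, hYi, hXi, hflat⟩ :=
    Groth.Agent.S2075.result D c hc j gj (𝟙 (D.obj j)) f (𝟙 c.pt) (c.π.app j) eXj hY hXj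
  haveI : IsIso gi := hYi.isIso_snd_of_isIso
  -- `Xi` is the base change of `Xj` to `D i`
  have hpb : IsPullback pX (fi ≫ gi) gj (D.map φ) := by
    have := (hXi.flip.paste_horiz hYi.flip).flip
    rwa [Category.comp_id] at this
  have q1 : LocallyOfFinitePresentation (fi ≫ gi) :=
    MorphismProperty.of_isPullback (P := @LocallyOfFinitePresentation) hpb p1
  have q2 : QuasiCompact (fi ≫ gi) := MorphismProperty.of_isPullback (P := @QuasiCompact) hpb p2
  have q3 : QuasiSeparated (fi ≫ gi) :=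
    MorphismProperty.of_isPullback (P := @QuasiSeparated) hpb p3
  have q4 : Flat (fi ≫ gi) := inferInstance
  -- the map from `X`
  let eX : X ⟶ Xi := hpb.lift eXj (f ≫ c.π.app i) (by rw [Category.assoc, c.w, hXj.w])
  have heX1 : eX ≫ pX = eXj := hpb.lift_fst _ _ _
  have heX2 : eX ≫ (fi ≫ gi) = f ≫ c.π.app i := hpb.lift_snd _ _ _
  have hX : IsPullback eX f (fi ≫ gi) (c.π.app i) := by
    refine IsPullback.of_right (h₁₂ := pX) (h₂₂ := D.map φ) (v₁₃ := gj) ?_ heX2 hpb
    rw [heX1, c.w]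
    exact hXj
  -- the section
  let Ti := pullback sj pX
  let si : Ti ⟶ Xi := pullback.snd sj pX
  let eT : c.pt ⟶ Ti := pullback.lift eTj (s ≫ eX) (by rw [Category.assoc, heX1, hTj.w])
  have heT1 : eT ≫ pullback.fst sj pX = eTj := pullback.lift_fst _ _ _
  have heT2 : eT ≫ si = s ≫ eX := pullback.lift_snd _ _ _
  have hT : IsPullback eT s si eX := by
    refine IsPullback.of_right (h₁₂ := pullback.fst sj pX) (h₂₂ := pX) (v₁₃ := sj) ?_ heT2
      (IsPullback.of_hasPullback sj pX)
    rw [heT1, heX1]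
    exact hTj
  have hTpb : IsPullback (pullback.fst sj pX) (si ≫ (fi ≫ gi)) (sj ≫ gj) (D.map φ) :=
    (IsPullback.of_hasPullback sj pX).paste_vert hpb
  refine ⟨i, Xi, Ti, fi ≫ gi, si, eX, eT, hX, hT, q1, q2, q3, q4, ?_, ?_, ?_⟩
  · exact MorphismProperty.of_isPullback (P := @LocallyOfFinitePresentation) hTpb p4
  · exact MorphismProperty.of_isPullback (P := @QuasiCompact) hTpb p5
  · exact MorphismProperty.of_isPullback (P := @QuasiSeparated) hTpb p6

end Groth.Agent.H7.SecComp
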