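import Mathlib
import Groth.Agent.H7.SecComp.FlatDescent
import Groth.Agent.S1324
import Groth.Agent.S3420
import Groth.Agent.S9735

/-!
# Section components contain a neighbourhood of geometrically reduced fibre components
-/

set_option autoImplicit false
set_option linter.style.haveILetI false
universe u
open CategoryTheory CategoryTheory.Limits AlgebraicGeometry TopologicalSpace Topology

namespace Groth.Agent.H7.SecComp

/-- geometrically reduced implies geometrically reduced at every point -/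
theorem isGeomReducedAt_of_geometricallyReduced {k : Type u} [Field k] {F : Scheme.{u}}
    (φ : F ⟶ Spec (CommRingCat.of k)) [GeometricallyReduced φ] (x : F) :
    FBase.IsGeomReducedAt φ x := by
  intro K _ _ x' _
  haveI : IsReduced (FBase.bc φ K) :=
    GeometricallyReduced.geometrically_isReduced (f := φ) _ _ _ (IsPullback.of_hasPullback φ _)
  infer_instance

/-- a flat morphism locally of finite presentation is universally open at every point -/
theorem isUnivOpenAt_of_flat {X Y : Scheme.{u}} (f : X ⟶ Y) [Flat f]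
    [LocallyOfFinitePresentation f] (x : X) : EGA43.IsUnivOpenAt f x := by
  intro Y' g x' _ U hU
  exact (pullback.snd f g).isOpenMap.image_mem_nhds hU

variable {X Y : Scheme.{u}} (f : X ⟶ Y) (s : Y ⟶ X)

/-- membership in the section components over `y` -/
theorem mem_connectedComponentIn_iff (x : X) (y : Y) :
    x ∈ connectedComponentIn (f ⁻¹' {y}) (s y) ↔ x ∈ MoreMor.sectionComponents f s ∧ f x = y := by
  constructor
  · intro hx
    have hfx : f x = y := (connectedComponentIn_subset (f ⁻¹' {y}) (s y) hx : x ∈ f ⁻¹' {y})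
    subst hfx
    exact ⟨hx, rfl⟩
  · rintro ⟨hx, rfl⟩
    exact hx

/-- the noetherian case, from EGA IV 15.6.7 -/
theorem nhds_of_isLocallyNoetherian [IsLocallyNoetherian Y] (hs : s ≫ f = 𝟙 Y)
    [LocallyOfFinitePresentation f] [Flat f] (y : Y)
    (hy : GeometricallyReduced (f.fiberToSpecResidueField y)) :
    connectedComponentIn (f ⁻¹' {y}) (s y) ⊆ interior (MoreMor.sectionComponents f s) := by
  refine (Groth.Agent.S3420.result f s hs).1 y (fun x hx => ⟨isUnivOpenAt_of_flat f x, ?_⟩)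
  have hfx : f x = y := (connectedComponentIn_subset (f ⁻¹' {y}) (s y) hx : x ∈ f ⁻¹' {y})
  subst hfx
  exact @isGeomReducedAt_of_geometricallyReduced _ _ _ (f.fiberToSpecResidueField (f x)) hy _

/-- a noetherian model of a flat finitely presented morphism with section, abstract form -/
theorem exists_model_of_limit {I : Type u} [SmallCategory I] [IsCofiltered I]
    (D : I ⥤ Scheme.{u}) (c : Limits.Cone D) (hc : Limits.IsLimit c)
    [∀ (i j : I) (f : i ⟶ j), IsAffineHom (D.map f)] [∀ i, CompactSpace (D.obj i)]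
    [∀ i, QuasiSeparatedSpace (D.obj i)] (hD : ∀ i, IsNoetherian (D.obj i))
    {X : Scheme.{u}} (f : X ⟶ c.pt) (s : c.pt ⟶ X) (hs : s ≫ f = 𝟙 _)
    [LocallyOfFinitePresentation f] [QuasiCompact f] [QuasiSeparated f] [Flat f] :
    ∃ (P₀ T₀ : Scheme.{u}) (pr : P₀ ⟶ T₀) (Γ : T₀ ⟶ P₀) (φ : X ⟶ P₀) (eT : c.pt ⟶ T₀),
      IsNoetherian T₀ ∧ Γ ≫ pr = 𝟙 T₀ ∧ IsPullback φ f pr eT ∧ s ≫ φ = eT ≫ Γ ∧
      LocallyOfFinitePresentation pr ∧ QuasiCompact pr ∧ Flat pr := by
  obtain ⟨i, X₀, T₀, g₀, s₀, eX, eT, sq1, sq2, p1, p2, p3, pf, p4, p5, p6⟩ :=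
    exists_flat_descent_section D c hc f s hs
  have hN : IsNoetherian (D.obj i) := hD i
  set h := c.π.app i with hh0
  -- the family over `T₀`
  let P₀ := pullback g₀ (s₀ ≫ g₀)
  let pr₁ : P₀ ⟶ X₀ := pullback.fst g₀ (s₀ ≫ g₀)
  let pr₂ : P₀ ⟶ T₀ := pullback.snd g₀ (s₀ ≫ g₀)
  let Γ : T₀ ⟶ P₀ := pullback.lift s₀ (𝟙 T₀) (by rw [Category.id_comp])
  have hΓ : Γ ≫ pr₂ = 𝟙 T₀ := pullback.lift_snd _ _ _
  haveI : IsLocallyNoetherian T₀ := LocallyOfFiniteType.isLocallyNoetherian (s₀ ≫ g₀)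
  haveI : CompactSpace ↥T₀ := QuasiCompact.compactSpace_of_compactSpace (s₀ ≫ g₀)
  haveI : IsNoetherian T₀ := {}
  have q1 : LocallyOfFinitePresentation pr₂ := MorphismProperty.pullback_snd _ _ p1
  have q2 : QuasiCompact pr₂ := MorphismProperty.pullback_snd _ _ p2
  have q3 : Flat pr₂ := MorphismProperty.pullback_snd _ _ pf
  have hh : eT ≫ s₀ ≫ g₀ = h := by
    rw [← Category.assoc, sq2.w, Category.assoc, sq1.w, ← Category.assoc, hs, Category.id_comp]
  let φ : X ⟶ P₀ := pullback.lift eX (f ≫ eT) (by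
    rw [Category.assoc, hh]; exact sq1.w)
  have hφ1 : φ ≫ pr₁ = eX := pullback.lift_fst _ _ _
  have hφ2 : φ ≫ pr₂ = f ≫ eT := pullback.lift_snd _ _ _
  have hsq : IsPullback φ f pr₂ eT := by
    have hbig : IsPullback (φ ≫ pr₁) f g₀ (eT ≫ s₀ ≫ g₀) := by
      rw [hφ1, hh]; exact sq1
    exact IsPullback.of_right hbig hφ2 (IsPullback.of_hasPullback g₀ (s₀ ≫ g₀))
  have hsφ : s ≫ φ = eT ≫ Γ := by
    apply pullback.hom_ext
    · rw [Category.assoc, hφ1, Category.assoc]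
      show s ≫ eX = eT ≫ Γ ≫ pr₁
      rw [show Γ ≫ pr₁ = s₀ from pullback.lift_fst _ _ _]
      exact sq2.w.symm
    · rw [Category.assoc, hφ2, Category.assoc]
      show s ≫ f ≫ eT = eT ≫ Γ ≫ pr₂
      rw [hΓ, ← Category.assoc, hs, Category.id_comp, Category.comp_id]
  exact ⟨P₀, T₀, pr₂, Γ, φ, eT, inferInstance, hΓ, hsq, hsφ, q1, q2, q3⟩

/-- a noetherian model of a flat finitely presented morphism with section over an affine base -/
theorem exists_noetherian_model (A : CommRingCat.{u}) {X : Scheme.{u}}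
    (f : X ⟶ Spec A) (s : Spec A ⟶ X) (hs : s ≫ f = 𝟙 _)
    [LocallyOfFinitePresentation f] [QuasiCompact f] [QuasiSeparated f] [Flat f] :
    ∃ (P₀ T₀ : Scheme.{u}) (pr : P₀ ⟶ T₀) (Γ : T₀ ⟶ P₀) (φ : X ⟶ P₀) (eT : Spec A ⟶ T₀),
      IsNoetherian T₀ ∧ Γ ≫ pr = 𝟙 T₀ ∧ IsPullback φ f pr eT ∧ s ≫ φ = eT ≫ Γ ∧
      LocallyOfFinitePresentation pr ∧ QuasiCompact pr ∧ Flat pr := by
  let _ : Algebra (ULift.{u} ℤ) A :=
    ((Int.castRingHom A).comp (ULift.ringEquiv : ULift.{u} ℤ ≃+* ℤ).toRingHom).toAlgebra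
  have : IsNoetherianRing (ULift.{u} ℤ) :=
    isNoetherianRing_of_ringEquiv ℤ (ULift.ringEquiv : ULift.{u} ℤ ≃+* ℤ).symm
  let f' : X ⟶ (Groth.Agent.H24.FGSubAlg.specCone (ULift.{u} ℤ) A).pt := f
  let s' : (Groth.Agent.H24.FGSubAlg.specCone (ULift.{u} ℤ) A).pt ⟶ X := s
  have i1 : LocallyOfFinitePresentation f' := ‹LocallyOfFinitePresentation f›
  have i2 : QuasiCompact f' := ‹QuasiCompact f›
  have i3 : QuasiSeparated f' := ‹QuasiSeparated f›
  have i4 : Flat f' := ‹Flat f›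
  obtain ⟨P₀, T₀, pr, Γ, φ, eT, h1, h2, h3, h4, h5, h6, h7⟩ :=
    exists_model_of_limit (Groth.Agent.H24.FGSubAlg.specDiagram (ULift.{u} ℤ) A)
      (Groth.Agent.H24.FGSubAlg.specCone (ULift.{u} ℤ) A)
      (Groth.Agent.H24.FGSubAlg.isLimitSpecCone (ULift.{u} ℤ) A)
      (fun i => Groth.Agent.H29.ConsMorC.noeth_specDiagram A (ULift.{u} ℤ) i) f' s' hs
  exact ⟨P₀, T₀, pr, Γ, φ, eT, h1, h2, h3, h4, h5, h6, h7⟩

/-- **Stacks 055G**, affine base. -/
theorem nhds_of_spec (A : CommRingCat.{u}) {X : Scheme.{u}}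
    (f : X ⟶ Spec A) (s : Spec A ⟶ X) (hs : s ≫ f = 𝟙 _)
    [LocallyOfFinitePresentation f] [QuasiCompact f] [QuasiSeparated f] [Flat f] (y : Spec A)
    (hy : GeometricallyReduced (f.fiberToSpecResidueField y)) (x : X)
    (hx : x ∈ MoreMor.sectionComponents f s) (hfx : f x = y) :
    x ∈ interior (MoreMor.sectionComponents f s) := by
  obtain ⟨P₀, T₀, pr, Γ, φ, eT, hN, hΓ, hsq, hsφ, q1, q2, q3⟩ := exists_noetherian_model A f s hs
  have hE := Groth.Agent.S1324.result pr Γ hΓ f φ eT hsq s hs hsφ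
  -- the fibre of the model over `eT y` is geometrically reduced
  have hred : GeometricallyReduced (pr.fiberToSpecResidueField (eT y)) := by
    have h1 := Groth.Agent.S9735.result pr eT f φ hsq
    have h2 : y ∈ {y' : ↑(Spec A) | GeometricallyReduced (f.fiberToSpecResidueField y')} := hy
    rw [h1] at h2
    exact h2
  have hnh := nhds_of_isLocallyNoetherian pr Γ hΓ (eT y) hred
  have hφx : φ x ∈ connectedComponentIn (pr ⁻¹' {eT y}) (Γ (eT y)) := by
    rw [mem_connectedComponentIn_iff]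
    refine ⟨?_, ?_⟩
    · rw [hE] at hx; exact hx
    · rw [← Scheme.Hom.comp_apply, hsq.w, Scheme.Hom.comp_apply, hfx]
  have h3 := hnh hφx
  rw [hE]
  exact (preimage_interior_subset_interior_preimage φ.continuous) h3

/-- **Stacks 055G.** -/
theorem nhds_of_geometricallyReduced (hs : s ≫ f = 𝟙 Y)
    [LocallyOfFinitePresentation f] [QuasiCompact f] [QuasiSeparated f] [Flat f] (y : Y)
    (hy : GeometricallyReduced (f.fiberToSpecResidueField y)) :
    connectedComponentIn (f ⁻¹' {y}) (s y) ⊆ interior (MoreMor.sectionComponents f s) := by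
  intro x hx
  obtain ⟨hxE, hfx⟩ := (mem_connectedComponentIn_iff f s x y).mp hx
  obtain ⟨V, hV, hyV, -⟩ := exists_isAffineOpen_mem_and_subset (x := y) (U := ⊤) trivial
  haveI : IsAffine (V : Scheme.{u}) := hV
  let f'' : (f ⁻¹ᵁ V : Scheme.{u}) ⟶ Spec Γ(V, ⊤) := (f ∣_ V) ≫ (V : Scheme.{u}).isoSpec.hom
  let g : Spec Γ(V, ⊤) ⟶ Y := (V : Scheme.{u}).isoSpec.inv ≫ V.ι
  have hsq1 : IsPullback (𝟙 (f ⁻¹ᵁ V : Scheme.{u})) f'' (f ∣_ V) (V : Scheme.{u}).isoSpec.inv :=
    IsPullback.of_horiz_isIso ⟨by simp [f'']⟩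
  have hsq : IsPullback (f ⁻¹ᵁ V).ι f'' f g := by
    have := hsq1.paste_horiz (isPullback_morphismRestrict f V).flip
    rwa [Category.id_comp] at this
  let s'' : Spec Γ(V, ⊤) ⟶ (f ⁻¹ᵁ V : Scheme.{u}) :=
    hsq.lift (g ≫ s) (𝟙 _) (by rw [Category.assoc, hs, Category.comp_id, Category.id_comp])
  have hs''1 : s'' ≫ (f ⁻¹ᵁ V).ι = g ≫ s := hsq.lift_fst _ _ _
  have hs''2 : s'' ≫ f'' = 𝟙 _ := hsq.lift_snd _ _ _
  have hE := Groth.Agent.S1324.result f s hs f'' (f ⁻¹ᵁ V).ι g hsq s'' hs''2 hs''1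
  -- the point over `y`
  have hxU : x ∈ f ⁻¹ᵁ V := by
    show f x ∈ V
    rw [hfx]; exact hyV
  let x' : ↥(f ⁻¹ᵁ V : Scheme.{u}) := ⟨x, hxU⟩
  have hx'x : (f ⁻¹ᵁ V).ι x' = x := rfl
  have hgy : g (f'' x') = y := by
    rw [← Scheme.Hom.comp_apply, ← hsq.w, Scheme.Hom.comp_apply, hx'x, hfx]
  have hred : GeometricallyReduced (f''.fiberToSpecResidueField (f'' x')) := by
    have h1 := Groth.Agent.S9735.result f g f'' (f ⁻¹ᵁ V).ι hsq
    have h2 : f'' x' ∈ g ⁻¹' {y : ↑Y | GeometricallyReduced (f.fiberToSpecResidueField y)} := by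
      show GeometricallyReduced (f.fiberToSpecResidueField (g (f'' x')))
      rw [hgy]; exact hy
    rw [← h1] at h2
    exact h2
  have hx'E : x' ∈ MoreMor.sectionComponents f'' s'' := by
    rw [hE]; exact hxE
  have h3 := nhds_of_spec Γ(V, ⊤) f'' s'' hs''2 (f'' x') hred x' hx'E rfl
  -- push forward along the open immersion
  have hopen : IsOpen ((f ⁻¹ᵁ V).ι '' interior (MoreMor.sectionComponents f'' s'')) :=
    (f ⁻¹ᵁ V).ι.isOpenEmbedding.isOpenMap _ isOpen_interior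
  refine mem_interior.mpr ⟨_, ?_, hopen, ⟨x', h3, hx'x⟩⟩
  rintro _ ⟨z, hz, rfl⟩
  have := interior_subset hz
  rw [hE] at this
  exact this

end Groth.Agent.H7.SecComp
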